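import Mathlib.Topology.KrullDimension
import Mathlib.Topology.NoetherianSpace
import Mathlib.Topology.Separation.Basic
import Mathlib.Topology.Semicontinuity.Basic
import Groth.Prelude.Def_Flat

/-!
# Combinatorial dimension and local dimension of topological spaces
-/

namespace Groth.Agent.TopDimLib

open Set TopologicalSpace Topology

universe u

variable {X A : Type*} [TopologicalSpace X] [TopologicalSpace A]

theorem dim_le {c : WithBot ℕ∞}
    (h : ∀ p : LTSeries (IrreducibleCloseds X), (p.length : WithBot ℕ∞) ≤ c) :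
    topologicalKrullDim X ≤ c := iSup_le h

theorem length_le (p : LTSeries (IrreducibleCloseds X)) :
    (p.length : WithBot ℕ∞) ≤ topologicalKrullDim X :=
  le_iSup (fun p : LTSeries (IrreducibleCloseds X) => (p.length : WithBot ℕ∞)) p

theorem length_le_of_inducing {e : A → X} (he : IsInducing e) (p : LTSeries (IrreducibleCloseds X))
    (h : ∀ i, (p i : Set X) ⊆ closure ((p i : Set X) ∩ range e)) :
    (p.length : WithBot ℕ∞) ≤ topologicalKrullDim A := by
  have hirr : ∀ i, IsIrreducible (e ⁻¹' (p i : Set X)) := by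
    intro i
    constructor
    · obtain ⟨z, hz⟩ := (p i).isIrreducible.nonempty
      obtain ⟨_, hy, a, rfl⟩ := closure_nonempty_iff.1 ⟨z, h i hz⟩
      exact ⟨a, hy⟩
    · intro u v hu hv ⟨a, ha, hau⟩ ⟨b, hb, hbv⟩
      obtain ⟨u', hu', rfl⟩ := he.isOpen_iff.1 hu
      obtain ⟨v', hv', rfl⟩ := he.isOpen_iff.1 hv
      obtain ⟨z, hz, hzuv⟩ := (p i).isIrreducible.isPreirreducible u' v' hu' hv' ⟨e a, ha, hau⟩ ⟨e b, hb, hbv⟩
      obtain ⟨_, hyuv, hyp, c, rfl⟩ := mem_closure_iff.1 (h i hz) _ (hu'.inter hv') hzuv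
      exact ⟨c, hyp, hyuv⟩
  let q : LTSeries (IrreducibleCloseds A) :=
    { length := p.length
      toFun := fun i => ⟨e ⁻¹' (p i : Set X), hirr i, (p i).isClosed.preimage he.continuous⟩
      step := fun i => by
        have hlt : p i.castSucc < p i.succ := p.step i
        refine lt_of_le_of_ne (Set.preimage_mono (fun x hx => hlt.le hx)) fun heq => ?_
        have heq' : e ⁻¹' (p i.castSucc : Set X) = e ⁻¹' (p i.succ : Set X) :=
          heq
        refine hlt.not_ge fun x hx => ?_
        refine (p i.castSucc).isClosed.closure_subset_iff.2 ?_ (h i.succ hx)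
        rintro _ ⟨hy, a, rfl⟩
        show a ∈ e ⁻¹' (p i.castSucc : Set X)
        rw [heq']; exact hy }
  exact length_le q

theorem head_subset (p : LTSeries (IrreducibleCloseds X)) (i : Fin (p.length + 1)) :
    (p.head : Set X) ⊆ p i := fun _ hx => p.head_le i hx

theorem subset_last (p : LTSeries (IrreducibleCloseds X)) (i : Fin (p.length + 1)) :
    (p i : Set X) ⊆ p.last := fun _ hx => p.monotone (Fin.le_last i) hx

theorem length_le_closed (p : LTSeries (IrreducibleCloseds X)) {Y : Set X}
    (hY : (p.last : Set X) ⊆ Y) : (p.length : WithBot ℕ∞) ≤ topologicalKrullDim Y :=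
  length_le_of_inducing IsInducing.subtypeVal p fun i x hx =>
    subset_closure ⟨hx, by rw [Subtype.range_coe]; exact hY (subset_last p i hx)⟩

theorem subset_closure_inter_open {Z : Set X} (hZ : IsPreirreducible Z) {U : Set X} (hU : IsOpen U)
    (hne : (Z ∩ U).Nonempty) : Z ⊆ closure (Z ∩ U) :=
  subset_closure_inter_of_isPreirreducible_of_isOpen hZ hU hne

theorem length_le_open (p : LTSeries (IrreducibleCloseds X)) {U : Set X} (hU : IsOpen U)
    (hne : ((p.head : Set X) ∩ U).Nonempty) : (p.length : WithBot ℕ∞) ≤ topologicalKrullDim U :=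
  length_le_of_inducing IsInducing.subtypeVal p fun i => by
    rw [Subtype.range_coe]
    obtain ⟨x, hx, hxU⟩ := hne
    exact subset_closure_inter_open (p i).isIrreducible.isPreirreducible hU ⟨x, head_subset p i hx, hxU⟩

theorem le_localDim {p : LTSeries (IrreducibleCloseds X)} {x : X} (hx : x ∈ p.head) :
    (p.length : WithBot ℕ∞) ≤ FlatMor.localDim X x :=
  le_iInf fun U => length_le_open p U.1.isOpen ⟨x, hx, U.2⟩

theorem localDim_le_opens {x : X} (U : Opens X) (hx : x ∈ U) :
    FlatMor.localDim X x ≤ topologicalKrullDim (U : Set X) := iInf_le (fun V : {V : Opens X // x ∈ V} => topologicalKrullDim (V.1 : Set X)) ⟨U, hx⟩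

theorem localDim_le (x : X) : FlatMor.localDim X x ≤ topologicalKrullDim X :=
  (localDim_le_opens ⊤ trivial).trans (topologicalKrullDim_subspace_le X _)

theorem exists_localDim_eq (x : X) :
    ∃ U : {U : Opens X // x ∈ U}, topologicalKrullDim (U.1 : Set X) = FlatMor.localDim X x := by
  haveI : Nonempty {U : Opens X // x ∈ U} := ⟨⟨⊤, trivial⟩⟩
  exact ciInf_mem (fun U : {U : Opens X // x ∈ U} => topologicalKrullDim (U.1 : Set X))

theorem dim_eq_iSup_localDim : topologicalKrullDim X = ⨆ x : X, FlatMor.localDim X x := by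
  refine le_antisymm (dim_le fun p => ?_) (iSup_le localDim_le)
  obtain ⟨x, hx⟩ := p.head.isIrreducible.nonempty
  exact (le_localDim hx).trans (le_iSup (fun x => FlatMor.localDim X x) x)

theorem dim_eq_iSup_closedPoints [NoetherianSpace X] [T0Space X] :
    topologicalKrullDim X = ⨆ x ∈ {x : X | IsClosed ({x} : Set X)}, FlatMor.localDim X x := by
  refine le_antisymm (dim_le fun p => ?_) (iSup₂_le fun x _ => localDim_le x)
  obtain ⟨x, hx, hxc⟩ := p.head.isClosed.exists_closed_singleton p.head.isIrreducible.nonempty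
  exact (le_localDim hx).trans (le_iSup₂ (f := fun x (_ : x ∈ {x : X | IsClosed ({x} : Set X)}) => FlatMor.localDim X x) x hxc)

theorem zero_le_dim [h : Nonempty X] : 0 ≤ topologicalKrullDim X := by
  obtain ⟨x⟩ := h
  haveI : Nonempty (IrreducibleCloseds X) :=
    ⟨⟨closure {x}, isIrreducible_singleton.closure, isClosed_closure⟩⟩
  exact Order.krullDim_nonneg

theorem dim_eq_zero_iff [NoetherianSpace X] [T0Space X] [Nonempty X] :
    topologicalKrullDim X = 0 ↔ Finite X ∧ DiscreteTopology X := by
  constructor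
  · intro h
    have hmin : ∀ a b : IrreducibleCloseds X, a ≤ b → b ≤ a := by
      intro a b hab
      exact (Order.krullDim_nonpos_iff_forall_isMax.1 h.le a) hab
    have hT1 : ∀ x : X, IsClosed ({x} : Set X) := by
      intro x
      obtain ⟨y, hy, hyc⟩ := (isClosed_closure (s := ({x} : Set X))).exists_closed_singleton ⟨x, subset_closure rfl⟩
      have := hmin ⟨{y}, isIrreducible_singleton, hyc⟩ ⟨closure {x}, isIrreducible_singleton.closure, isClosed_closure⟩
        (fun z (hz : z = y) => hz ▸ hy)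
      have hxy : x = y := this (subset_closure (rfl : x ∈ ({x} : Set X)))
      exact hxy ▸ hyc
    haveI : T1Space X := ⟨hT1⟩
    have hfin : Finite X := by
      have hfin := NoetherianSpace.finite_irreducibleComponents (α := X)
      have hs : ∀ Z ∈ irreducibleComponents X, Z.Subsingleton := by
        intro Z hZ a ha b hb
        have hZc : IsClosed Z := isClosed_of_mem_irreducibleComponents Z hZ
        have := hmin ⟨{a}, isIrreducible_singleton, hT1 a⟩ ⟨Z, hZ.1, hZc⟩ (fun z (hz : z = a) => hz ▸ ha)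
        exact (this hb : b = a).symm
      have huniv : (Set.univ : Set X).Finite :=
        sUnion_irreducibleComponents (X := X) ▸ hfin.sUnion fun Z hZ => (hs Z hZ).finite
      exact Set.finite_univ_iff.1 huniv
    exact ⟨hfin, inferInstance⟩
  · rintro ⟨-, h⟩
    exact le_antisymm (topologicalKrullDim_zero_of_discreteTopology X) zero_le_dim

theorem isOpen_singleton_iff [NoetherianSpace X] [T0Space X] (x : X) :
    IsOpen ({x} : Set X) ↔ FlatMor.localDim X x = 0 := by
  constructor
  · intro h
    haveI : Subsingleton ((⟨{x}, h⟩ : Opens X) : Set X) :=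
      ⟨fun a b => Subtype.ext ((a.2 : a.1 = x).trans (b.2 : b.1 = x).symm)⟩
    refine le_antisymm ((localDim_le_opens ⟨{x}, h⟩ rfl).trans (topologicalKrullDim_zero_of_discreteTopology _)) (le_iInf fun U => ?_)
    haveI : Nonempty (U.1 : Set X) := ⟨⟨x, U.2⟩⟩
    exact zero_le_dim
  · intro h
    obtain ⟨U, hU⟩ := exists_localDim_eq x
    haveI : Nonempty (U.1 : Set X) := ⟨⟨x, U.2⟩⟩
    obtain ⟨-, hd⟩ := dim_eq_zero_iff.1 (hU.trans h)
    have := U.1.isOpen.isOpenMap_subtype_val _ (isOpen_discrete ({⟨x, U.2⟩} : Set (U.1 : Set X)))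
    simpa using this

theorem upperSemicontinuous_localDim : UpperSemicontinuous fun x : X => FlatMor.localDim X x := by
  intro x c hc
  obtain ⟨U, hU⟩ := exists_localDim_eq x
  filter_upwards [U.1.isOpen.mem_nhds U.2] with y hy
  exact lt_of_le_of_lt (localDim_le_opens U.1 hy) (lt_of_eq_of_lt hU hc)

theorem exists_subset_of_finite_cover {ι : Type*} {Y : ι → Set X} (hY : ∀ i, IsClosed (Y i))
    {Z : Set X} (hZ : IsIrreducible Z) {t : Finset ι} (h : Z ⊆ ⋃ i ∈ t, Y i) : ∃ i ∈ t, Z ⊆ Y i := by
  classical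
  obtain ⟨_, hz, hsub⟩ := isIrreducible_iff_sUnion_isClosed.1 hZ (t.image Y)
    (fun z hz => by obtain ⟨i, -, rfl⟩ := Finset.mem_image.1 hz; exact hY i) (by simpa using h)
  obtain ⟨i, hi, rfl⟩ := Finset.mem_image.1 hz
  exact ⟨i, hi, hsub⟩

theorem dim_eq_iSup_finite_closed {ι : Type*} [Finite ι] (Y : ι → Set X) (hY : ∀ i, IsClosed (Y i))
    (hcov : ⋃ i, Y i = Set.univ) : topologicalKrullDim X = ⨆ i, topologicalKrullDim (Y i) := by
  refine le_antisymm (dim_le fun p => ?_) (iSup_le fun i => topologicalKrullDim_subspace_le X _)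
  have := Fintype.ofFinite ι
  obtain ⟨i, -, hi⟩ := exists_subset_of_finite_cover hY p.last.isIrreducible (t := Finset.univ)
    (by simp [hcov])
  exact (length_le_closed p hi).trans (le_iSup (fun i => topologicalKrullDim (Y i)) i)

theorem dim_eq_iSup_open {ι : Type*} (U : ι → Opens X) (hcov : ⨆ i, U i = ⊤) :
    topologicalKrullDim X = ⨆ i, topologicalKrullDim (U i) := by
  refine le_antisymm (dim_le fun p => ?_) (iSup_le fun i => topologicalKrullDim_subspace_le X _)
  obtain ⟨z, hz⟩ := p.head.isIrreducible.nonempty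
  obtain ⟨i, hi⟩ := Opens.mem_iSup.1 (hcov.ge (mem_univ z) : z ∈ ⨆ i, U i)
  exact (length_le_open p (U i).isOpen ⟨z, hz, hi⟩).trans (le_iSup (fun i => topologicalKrullDim (U i)) i)

theorem dim_eq_iSup_locallyFinite {ι : Type*} (Y : ι → Set X) (hY : ∀ i, IsClosed (Y i))
    (hlf : LocallyFinite Y) (hcov : ⋃ i, Y i = Set.univ) :
    topologicalKrullDim X = ⨆ i, topologicalKrullDim (Y i) := by
  refine le_antisymm (dim_le fun p => ?_) (iSup_le fun i => topologicalKrullDim_subspace_le X _)
  obtain ⟨z, hz⟩ := p.last.isIrreducible.nonempty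
  obtain ⟨V, hV, hfin⟩ := hlf z
  obtain ⟨U, hUV, hU, hzU⟩ := mem_nhds_iff.1 hV
  have hne : ((p.last : Set X) ∩ U).Nonempty := ⟨z, hz, hzU⟩
  have hd := subset_closure_inter_open p.last.isIrreducible.isPreirreducible hU hne
  have hcl : IsClosed (⋃ i ∈ hfin.toFinset, Y i) := isClosed_biUnion_finset fun i _ => hY i
  have hsub : (p.last : Set X) ⊆ ⋃ i ∈ hfin.toFinset, Y i := by
    refine hd.trans (hcl.closure_subset_iff.2 ?_)
    intro w hw
    obtain ⟨i, hi⟩ := mem_iUnion.1 (hcov.ge (mem_univ w))
    exact mem_iUnion₂.2 ⟨i, hfin.mem_toFinset.2 ⟨w, hi, hUV hw.2⟩, hi⟩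
  obtain ⟨i, -, hi⟩ := exists_subset_of_finite_cover hY p.last.isIrreducible hsub
  exact (length_le_closed p hi).trans (le_iSup (fun i => topologicalKrullDim (Y i)) i)

theorem localDim_eq_iSup_finite_closed (x : X) {ι : Type*} [Finite ι] (Y : ι → Set X)
    (hY : ∀ i, IsClosed (Y i)) (hx : ∀ i, x ∈ Y i) (hcov : ⋃ i, Y i = Set.univ) :
    FlatMor.localDim X x = ⨆ i, FlatMor.localDim (Y i) ⟨x, hx i⟩ := by
  refine le_antisymm ?_ (iSup_le fun i => le_iInf fun U => ?_)
  · choose U hU using fun i => exists_localDim_eq (X := Y i) ⟨x, hx i⟩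
    choose V hV hVU using fun i => isOpen_induced_iff.1 (U i).1.isOpen
    have hxV : ∀ i, x ∈ V i := fun i => by
      have : (⟨x, hx i⟩ : Y i) ∈ Subtype.val ⁻¹' (V i) := by rw [hVU i]; exact (U i).2
      exact this
    let W : Opens X := ⟨⋂ i, V i, isOpen_iInter_of_finite hV⟩
    refine (localDim_le_opens W (mem_iInter.2 hxV)).trans ?_
    rw [dim_eq_iSup_finite_closed (fun i => (Subtype.val ⁻¹' Y i : Set (W : Set X)))
      (fun i => (hY i).preimage continuous_subtype_val)
      (Set.eq_univ_of_forall fun w => by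
        obtain ⟨i, hi⟩ := mem_iUnion.1 (hcov.ge (mem_univ w.1))
        exact mem_iUnion.2 ⟨i, hi⟩)]
    refine iSup_mono fun i => ?_
    rw [← hU i]
    have hmem : ∀ a : (Subtype.val ⁻¹' Y i : Set (W : Set X)),
        (⟨a.1.1, a.2⟩ : Y i) ∈ ((U i).1 : Set (Y i)) := fun a => by
      rw [← hVU i]; exact mem_iInter.1 a.1.2 i
    refine IsInducing.topologicalKrullDim_le (f := fun a => (⟨⟨a.1.1, a.2⟩, hmem a⟩ : ((U i).1 : Set (Y i)))) ?_
    refine IsInducing.of_comp (by fun_prop) (continuous_subtype_val.comp continuous_subtype_val) ?_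
    have hind : IsInducing (fun a : (Subtype.val ⁻¹' Y i : Set (W : Set X)) => a.1.1) :=
      (IsInducing.subtypeVal (t := fun w => w ∈ (W : Set X))).comp IsInducing.subtypeVal
    exact hind
  · refine (localDim_le_opens ⟨Subtype.val ⁻¹' (U.1 : Set X), U.1.isOpen.preimage continuous_subtype_val⟩ U.2).trans ?_
    refine IsInducing.topologicalKrullDim_le
      (f := fun a : (Subtype.val ⁻¹' (U.1 : Set X) : Set (Y i)) => (⟨a.1.1, a.2⟩ : (U.1 : Set X))) ?_
    refine IsInducing.of_comp (by fun_prop) continuous_subtype_val ?_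
    have hind : IsInducing (fun a : (Subtype.val ⁻¹' (U.1 : Set X) : Set (Y i)) => a.1.1) :=
      (IsInducing.subtypeVal (t := fun w => w ∈ Y i)).comp IsInducing.subtypeVal
    exact hind

theorem dim_lt_of_closed_ssubset [IrreducibleSpace X] (hfin : topologicalKrullDim X ≠ ⊤) (Y : Set X)
    (hY : IsClosed Y) (hYX : Y ≠ Set.univ) : topologicalKrullDim Y < topologicalKrullDim X := by
  rcases isEmpty_or_nonempty Y with h | h
  · haveI : IsEmpty (IrreducibleCloseds Y) := ⟨fun Z => h.elim Z.isIrreducible.nonempty.choose⟩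
    have h1 : topologicalKrullDim Y = ⊥ := Order.krullDim_eq_bot
    rw [h1]
    exact lt_of_lt_of_le (WithBot.bot_lt_coe 0) zero_le_dim
  · refine lt_of_le_of_ne (topologicalKrullDim_subspace_le X Y) fun heq => ?_
    haveI : Nonempty (IrreducibleCloseds Y) :=
      ⟨⟨closure {h.some}, isIrreducible_singleton.closure, isClosed_closure⟩⟩
    haveI : FiniteDimensionalOrder (IrreducibleCloseds Y) :=
      Order.finiteDimensionalOrder_iff_krullDim_ne_bot_and_top.2
        ⟨(lt_of_lt_of_le (WithBot.bot_lt_coe 0) Order.krullDim_nonneg).ne', fun ht => hfin (heq.symm.trans ht)⟩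
    have hlen : topologicalKrullDim Y = (LTSeries.longestOf (IrreducibleCloseds Y)).length :=
      Order.krullDim_eq_length_of_finiteDimensionalOrder
    let m := (LTSeries.longestOf (IrreducibleCloseds Y)).map _
        (IrreducibleCloseds.map_strictMono_of_isInducing (IsInducing.subtypeVal (t := fun z => z ∈ Y)))
    let top : IrreducibleCloseds X := ⟨Set.univ, IrreducibleSpace.isIrreducible_univ X, isClosed_univ⟩
    have hlt : m.last < top := by
      refine lt_of_le_of_ne (fun a _ => mem_univ a) fun he => hYX ?_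
      refine eq_univ_of_univ_subset ?_
      have h2 : (Set.univ : Set X) = closure (Subtype.val '' ((LTSeries.longestOf (IrreducibleCloseds Y)).last : Set Y)) := by
        have := congrArg (SetLike.coe : IrreducibleCloseds X → Set X) he
        exact this.symm
      rw [h2]
      exact hY.closure_subset_iff.2 (Subtype.coe_image_subset _ _)
    let q : LTSeries (IrreducibleCloseds X) := m.snoc top hlt
    have hq := length_le q
    rw [← heq, hlen] at hq
    simp only [q, m, RelSeries.snoc_length, LTSeries.map_length] at hq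
    norm_cast at hq
    omega

theorem dim_eq_iSup_components :
    topologicalKrullDim X = ⨆ Y ∈ irreducibleComponents X, topologicalKrullDim ↥Y := by
  refine le_antisymm (dim_le fun p => ?_) (iSup₂_le fun Y _ => topologicalKrullDim_subspace_le X Y)
  obtain ⟨T, hT, hsub, hmax⟩ := exists_preirreducible (p.last : Set X) p.last.isIrreducible.isPreirreducible
  have hTc : T ∈ irreducibleComponents X :=
    ⟨⟨p.last.isIrreducible.nonempty.mono hsub, hT⟩, fun u hu hTu => (hmax u hu.2 hTu).le⟩
  exact (length_le_closed p hsub).trans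
    (le_iSup₂ (f := fun Y (_ : Y ∈ irreducibleComponents X) => topologicalKrullDim ↥Y) T hTc)

end Groth.Agent.TopDimLib
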